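import Groth.Prelude.Def_W4stktopologysheavesDim
import Mathlib.Order.KrullDimension
import Mathlib.Topology.Sober

/-!
# Codimension and catenary spaces
-/

set_option autoImplicit false
universe u

open Topology TopologicalSpace Set

namespace Groth.Agent.PtTopLib

/-- Every step of the series is a covering relation. -/
def Saturated {α : Type*} [Preorder α] (s : LTSeries α) : Prop :=
  ∀ i : Fin s.length, s (Fin.castSucc i) ⋖ s (Fin.succ i)

variable {X : Type u} [TopologicalSpace X]

theorem length_le_codim {a b : IrreducibleCloseds X} (s : LTSeries (IrreducibleCloseds X))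
    (h1 : s.head = a) (h2 : s.last ≤ b) : (s.length : ℕ∞) ≤ PtTop.codim a (b : Set X) :=
  le_iSup₂ (f := fun (s : LTSeries (IrreducibleCloseds X))
    (_ : s.head = a ∧ (s.last : Set X) ⊆ b) => (s.length : ℕ∞)) s ⟨h1, h2⟩

theorem codim_le {a b : IrreducibleCloseds X} {c : ℕ∞}
    (h : ∀ s : LTSeries (IrreducibleCloseds X), s.head = a → s.last ≤ b → (s.length : ℕ∞) ≤ c) :
    PtTop.codim a (b : Set X) ≤ c :=
  iSup₂_le fun s hs => h s hs.1 hs.2

/-- A longest series realizes the codimension and is saturated. -/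
theorem exists_saturated {a b : IrreducibleCloseds X} (hab : a ≤ b)
    (h : PtTop.codim a (b : Set X) ≠ ⊤) :
    ∃ s : LTSeries (IrreducibleCloseds X), s.head = a ∧ s.last = b ∧ Saturated s ∧
      (s.length : ℕ∞) = PtTop.codim a (b : Set X) := by
  obtain ⟨N, hN⟩ := ENat.ne_top_iff_exists.1 h
  let S : Set ℕ := {n | ∃ s : LTSeries (IrreducibleCloseds X), s.head = a ∧ s.last ≤ b ∧ s.length = n}
  have hb : BddAbove S := ⟨N, fun n ⟨s, h1, h2, h3⟩ =>
    h3 ▸ Nat.cast_le.1 (hN ▸ length_le_codim s h1 h2)⟩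
  have hne : S.Nonempty := ⟨0, RelSeries.singleton _ a, rfl, hab, rfl⟩
  obtain ⟨s, h1, h2, h3⟩ := Nat.sSup_mem hne hb
  have hmax : ∀ q : LTSeries (IrreducibleCloseds X), q.head = a → q.last ≤ b → q.length ≤ s.length :=
    fun q q1 q2 => h3 ▸ le_csSup hb ⟨q, q1, q2, rfl⟩
  have hlast : s.last = b := h2.eq_or_lt.resolve_right fun hlt => by
    have : s.length + 1 ≤ s.length := hmax (s.snoc b hlt) (by rw [RelSeries.head_snoc, h1])
      (by rw [RelSeries.last_snoc])
    omega
  refine ⟨s, h1, hlast, fun i => ⟨s.step i, fun c hc hc' => ?_⟩,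
    le_antisymm (length_le_codim s h1 h2) (codim_le fun q q1 q2 => Nat.cast_le.2 (hmax q q1 q2))⟩
  have hhead : (s.insertNth i c hc hc').head = s.head := by
    have : (Fin.castSucc i.succ).insertNth (α := fun _ => IrreducibleCloseds X) c s
        (0 : Fin (s.length + 2)) = s 0 := by
      rw [Fin.insertNth_apply_below (by simp [Fin.lt_def])]
      simp
    exact this
  have hlast' : (s.insertNth i c hc hc').last = s.last := by
    have : (Fin.castSucc i.succ).insertNth (α := fun _ => IrreducibleCloseds X) c s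
        (Fin.last (s.length + 1)) = s (Fin.last s.length) := by
      rw [Fin.insertNth_apply_above (by simp [Fin.lt_def])]
      simp only [Fin.pred_last, eq_rec_constant]
    exact this
  have : s.length + 1 ≤ s.length :=
    hmax (s.insertNth i c hc hc') (hhead.trans h1) (hlast'.le.trans h2)
  omega

theorem length_eq_of_additive
    (hadd : ∀ Y Y' Y'' : IrreducibleCloseds X, Y ≤ Y' → Y' ≤ Y'' →
      PtTop.codim Y (Y'' : Set X) = PtTop.codim Y (Y' : Set X) + PtTop.codim Y' (Y'' : Set X))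
    (s : LTSeries (IrreducibleCloseds X)) (hs : Saturated s) :
    (s.length : ℕ∞) = PtTop.codim s.head (s.last : Set X) := by
  have h1 : ∀ a b : IrreducibleCloseds X, a ⋖ b → PtTop.codim a (b : Set X) = 1 := by
    intro a b hab
    refine le_antisymm (codim_le fun q q1 q2 => ?_) ?_
    · refine Nat.cast_le.2 (le_of_not_gt fun hlt => ?_)
      have h01 : q.head < q ⟨1, by omega⟩ := q.strictMono (show (0 : Fin _) < ⟨1, _⟩ by simp [Fin.lt_def])
      have h12 : q ⟨1, by omega⟩ < q ⟨2, by omega⟩ := q.strictMono (by simp [Fin.lt_def])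
      exact hab.2 (q1 ▸ h01) (h12.trans_le ((q.monotone (Fin.le_last _)).trans q2))
    · exact (le_of_eq (by rfl)).trans (length_le_codim ((RelSeries.singleton _ a).snoc b hab.lt) ((RelSeries.head_snoc _ _ _).trans rfl) ((RelSeries.last_snoc _ _ _).le))
  have hn : ∀ n (hn : n ≤ s.length),
      PtTop.codim s.head (s ⟨n, by omega⟩ : Set X) = (n : ℕ∞) := by
    intro n
    induction n with
    | zero =>
      intro _
      refine nonpos_iff_eq_zero.1 (codim_le fun q q1 q2 => Nat.cast_le.2 (le_of_not_gt fun hlt => ?_))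
      have h01 : q.head < q.last := q.strictMono (by simp [Fin.lt_def]; omega)
      exact (q1 ▸ h01).not_ge q2
    | succ n ih =>
      intro hn
      have := hs ⟨n, hn⟩
      rw [hadd s.head (s ⟨n, by omega⟩) (s ⟨n + 1, by omega⟩) (s.monotone (Fin.zero_le _)) this.le,
        ih (by omega), Nat.cast_add, Nat.cast_one]
      exact congrArg _ (h1 _ _ this)
  exact (hn s.length le_rfl).symm

theorem isCatenarySpace_iff :
    PtTop.IsCatenarySpace X ↔
      (∀ Y Y' : IrreducibleCloseds X, Y ≤ Y' → PtTop.codim Y (Y' : Set X) ≠ ⊤) ∧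
      (∀ Y Y' Y'' : IrreducibleCloseds X, Y ≤ Y' → Y' ≤ Y'' →
        PtTop.codim Y (Y'' : Set X) = PtTop.codim Y (Y' : Set X) + PtTop.codim Y' (Y'' : Set X)) := by
  refine ⟨fun h => ⟨fun Y Y' hY => (h Y Y' hY).1, fun Y Y' Y'' h1 h2 => ?_⟩, fun ⟨hf, hadd⟩ T T' hT =>
    ⟨hf T T' hT, fun s hs1 hs2 hs => hs1 ▸ hs2 ▸ length_eq_of_additive hadd s hs⟩⟩
  obtain ⟨p, p1, p2, p3, p4⟩ := exists_saturated h1 (h Y Y' h1).1
  obtain ⟨q, q1, q2, q3, q4⟩ := exists_saturated h2 (h Y' Y'' h2).1
  have hc : p.last = q.head := p2.trans q1.symm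
  have := (h Y Y'' (h1.trans h2)).2 (p.smash q hc) (by rw [RelSeries.head_smash, p1])
    (by rw [RelSeries.last_smash, q2]) ?_
  · rw [← this, ← p4, ← q4, ← Nat.cast_add]
    rfl
  · intro i
    refine Fin.addCases (fun j => ?_) (fun j => ?_) i
    · show (p.smash q hc) (j.castAdd q.length).castSucc ⋖ (p.smash q hc) (j.castAdd q.length).succ
      erw [RelSeries.smash_castAdd hc, RelSeries.smash_succ_castAdd hc]; exact p3 j
    · erw [RelSeries.smash_natAdd hc, RelSeries.smash_succ_natAdd hc]; exact q3 j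

/-- Strictly monotone integer functions increasing by one along covers force catenarity. -/
theorem catenary_of_rank (D : IrreducibleCloseds X → ℤ) (hD : StrictMono D)
    (hcov : ∀ a b, a ⋖ b → D b = D a + 1) :
    PtTop.IsCatenarySpace X ∧
      ∀ a b : IrreducibleCloseds X, a ≤ b → PtTop.codim a (b : Set X) = ((D b - D a).toNat : ℕ∞) := by
  have hlen : ∀ (s : LTSeries (IrreducibleCloseds X)) n (hn : n ≤ s.length),
      D s.head + n ≤ D (s ⟨n, by omega⟩) ∧ (Saturated s → D (s ⟨n, by omega⟩) = D s.head + n) := by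
    intro s n
    induction n with
    | zero => intro _; simp; exact ⟨le_rfl, fun _ => rfl⟩
    | succ n ih =>
      intro hn
      obtain ⟨i1, i2⟩ := ih (by omega)
      have h1 : D (s ⟨n, by omega⟩) < D (s ⟨n + 1, by omega⟩) := hD (s.step ⟨n, hn⟩)
      refine ⟨by push_cast; omega, fun hs => ?_⟩
      have h2 : D (s ⟨n + 1, by omega⟩) = D (s ⟨n, by omega⟩) + 1 := hcov _ _ (hs ⟨n, hn⟩)
      rw [h2, i2 hs]
      push_cast; omega
  have hle : ∀ a b : IrreducibleCloseds X, PtTop.codim a (b : Set X) ≤ ((D b - D a).toNat : ℕ∞) :=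
    fun a b => codim_le fun s s1 s2 => Nat.cast_le.2 (by
      have h1 : D s.head + s.length ≤ D s.last := (hlen s _ le_rfl).1
      have h2 := hD.monotone s2
      rw [s1] at h1
      omega)
  have hfin : ∀ a b : IrreducibleCloseds X, PtTop.codim a (b : Set X) ≠ ⊤ := fun a b =>
    ne_top_of_le_ne_top (ENat.natCast_ne_top _) (hle a b)
  have hsat : ∀ s : LTSeries (IrreducibleCloseds X), Saturated s →
      s.length = (D s.last - D s.head).toNat := fun s hs => by
    have : D s.last = D s.head + s.length := (hlen s _ le_rfl).2 hs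
    omega
  have heq : ∀ a b : IrreducibleCloseds X, a ≤ b →
      PtTop.codim a (b : Set X) = ((D b - D a).toNat : ℕ∞) := fun a b hab => by
    obtain ⟨s, s1, s2, s3, s4⟩ := exists_saturated hab (hfin a b)
    rw [← s4, hsat s s3, s1, s2]
  refine ⟨fun T T' hT => ⟨hfin T T', fun s s1 s2 s3 => ?_⟩, heq⟩
  rw [heq T T' hT, hsat s s3, s1, s2]

section Sober

variable [QuasiSober X] [T0Space X]

/-- Generic point of an irreducible closed subset. -/
noncomputable def gen (a : IrreducibleCloseds X) : X := a.isIrreducible.genericPoint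

theorem isGenericPoint_gen (a : IrreducibleCloseds X) : IsGenericPoint (gen a) (a : Set X) :=
  a.isIrreducible.isGenericPoint_genericPoint a.isClosed

theorem le_iff_gen {a b : IrreducibleCloseds X} : a ≤ b ↔ gen b ⤳ gen a :=
  ⟨fun h => (isGenericPoint_gen b).specializes (h (isGenericPoint_gen a).mem), fun h =>
    show (a : Set X) ⊆ b from (isGenericPoint_gen a).symm.le.trans (b.isClosed.closure_subset_iff.2
      (singleton_subset_iff.2 (h.mem_closed b.isClosed (isGenericPoint_gen b).mem)))⟩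

/-- The closure of a point as an irreducible closed subset. -/
abbrev pointClosure (x : X) : IrreducibleCloseds X :=
  ⟨closure {x}, isIrreducible_singleton.closure, isClosed_closure⟩

theorem gen_pointClosure (x : X) : gen (pointClosure x) = x :=
  ((isGenericPoint_gen (pointClosure x)).eq (show IsGenericPoint x (closure {x}) from rfl))

theorem catenary_of_dimensionFunction {δ : X → ℤ} (hδ : PtTop.IsDimensionFunction δ) :
    PtTop.IsCatenarySpace X ∧ ∀ x y : X, x ⤳ y →
      PtTop.codim (pointClosure y) (closure {x}) = ((δ x - δ y).toNat : ℕ∞) := by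
  have hne : ∀ {a b : IrreducibleCloseds X}, gen a = gen b → a = b := fun {a b} h =>
    le_antisymm (le_iff_gen.2 (h ▸ specializes_rfl)) (le_iff_gen.2 (h ▸ specializes_rfl))
  obtain ⟨h1, h2⟩ := catenary_of_rank (fun a => δ (gen a))
    (fun a b hab => hδ.1 _ _ (le_iff_gen.1 hab.le) fun h => hab.ne (hne h).symm)
    fun a b hab => hδ.2 _ _ ⟨le_iff_gen.1 hab.le, fun h => hab.lt.ne (hne h).symm, fun z hz hz' => by
      have ha : a ≤ pointClosure z := le_iff_gen.2 (by rwa [gen_pointClosure])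
      have hb : pointClosure z ≤ b := le_iff_gen.2 (by rwa [gen_pointClosure])
      rcases hab.eq_or_eq ha hb with h | h
      · exact .inr (by rw [← gen_pointClosure z, h])
      · exact .inl (by rw [← gen_pointClosure z, h])⟩
  refine ⟨h1, fun x y hxy => ?_⟩
  have := h2 (pointClosure y) (pointClosure x) (le_iff_gen.2 (by simpa only [gen_pointClosure] using hxy))
  simp only [gen_pointClosure] at this
  exact this

end Sober

/-- Catenarity passes along an order embedding with convex range. -/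
theorem codim_transfer {Y : Type u} [TopologicalSpace Y]
    (f : IrreducibleCloseds Y ↪o IrreducibleCloseds X) (hf : (range f).OrdConnected)
    {a b : IrreducibleCloseds Y} :
    PtTop.codim (f a) (f b : Set X) = PtTop.codim a (b : Set Y) := by
  refine le_antisymm (codim_le fun s s1 s2 => ?_) (codim_le fun s s1 s2 => ?_)
  · have hmem : ∀ i, s i ∈ range f := fun i => hf.out (mem_range_self a) (mem_range_self b)
      ⟨s1 ▸ s.monotone (Fin.zero_le i), (s.monotone (Fin.le_last i)).trans s2⟩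
    choose g hg using hmem
    refine length_le_codim (⟨s.length, g, fun i => ?_⟩ : LTSeries (IrreducibleCloseds Y))
      (f.injective ((hg 0).trans s1)) (f.le_iff_le.1 ((hg (Fin.last _)).le.trans s2))
    show g i.castSucc < g i.succ
    rw [← f.lt_iff_lt, hg, hg]
    exact s.step i
  · exact length_le_codim (s.map f f.strictMono) (by rw [LTSeries.head_map, s1])
      (by rw [LTSeries.last_map]; exact f.monotone s2)

theorem catenary_transfer {Y : Type u} [TopologicalSpace Y]
    (f : IrreducibleCloseds Y ↪o IrreducibleCloseds X) (hf : (range f).OrdConnected)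
    (h : PtTop.IsCatenarySpace X) : PtTop.IsCatenarySpace Y := by
  rw [isCatenarySpace_iff] at h ⊢
  refine ⟨fun a b hab => ?_, fun a b c h1 h2 => ?_⟩
  · rw [← codim_transfer f hf]; exact h.1 _ _ (f.monotone hab)
  · simp only [← codim_transfer f hf]; exact h.2 _ _ _ (f.monotone h1) (f.monotone h2)

section LocallyClosed

variable {S : Set X}

/-- Irreducible closed subsets of a subspace map to those of the space. -/
noncomputable def icEmb (S : Set X) : IrreducibleCloseds S ↪o IrreducibleCloseds X :=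
  OrderEmbedding.ofMapLEIff (IrreducibleCloseds.map Subtype.val continuous_subtype_val)
    fun a b => by
      refine ⟨fun h => ?_, fun h => IrreducibleCloseds.map_mono continuous_subtype_val h⟩
      have h' := preimage_mono (f := (Subtype.val : S → X))
        (show closure (Subtype.val '' (a : Set S)) ⊆ closure (Subtype.val '' (b : Set S)) from h)
      rw [← IsEmbedding.subtypeVal.closure_eq_preimage_closure_image,
        ← IsEmbedding.subtypeVal.closure_eq_preimage_closure_image, a.isClosed.closure_eq,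
        b.isClosed.closure_eq] at h'
      exact h'

theorem mem_range_icEmb (hS : IsLocallyClosed S) {V : IrreducibleCloseds X} :
    V ∈ range (icEmb S) ↔ (V : Set X) ⊆ closure S ∧ ((V : Set X) ∩ S).Nonempty := by
  constructor
  · rintro ⟨a, rfl⟩
    obtain ⟨x, hx⟩ := a.isIrreducible.nonempty
    exact ⟨closure_mono (Subtype.coe_image_subset S _), x, subset_closure ⟨x, hx, rfl⟩, x.2⟩
  · rintro ⟨hV, hne⟩
    obtain ⟨U, C, hU, hC, hUC⟩ := hS
    have hVC : (V : Set X) ⊆ C := hV.trans (hC.closure_subset_iff.2 (hUC ▸ inter_subset_right))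
    have hVS : (V : Set X) ∩ S = (V : Set X) ∩ U := by
      rw [hUC]; ext x; exact ⟨fun h => ⟨h.1, h.2.1⟩, fun h => ⟨h.1, h.2, hVC h.1⟩⟩
    have hirr : IsPreirreducible ((V : Set X) ∩ S) := by
      rw [hVS]
      intro A B hA hB ⟨a, ha, haA⟩ ⟨b, hb, hbB⟩
      obtain ⟨z, hz, ⟨hzU, hzA⟩, -, hzB⟩ := V.isIrreducible.2 (U ∩ A) (U ∩ B) (hU.inter hA) (hU.inter hB)
        ⟨a, ha.1, ha.2, haA⟩ ⟨b, hb.1, hb.2, hbB⟩
      exact ⟨z, ⟨hz, hzU⟩, hzA, hzB⟩
    refine ⟨⟨Subtype.val ⁻¹' (V : Set X), ⟨?_, ?_⟩, V.isClosed.preimage continuous_subtype_val⟩, ?_⟩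
    · obtain ⟨x, hx, hxS⟩ := hne; exact ⟨⟨x, hxS⟩, hx⟩
    · rintro _ _ ⟨A, hA, rfl⟩ ⟨B, hB, rfl⟩ ⟨a, ha, haA⟩ ⟨b, hb, hbB⟩
      obtain ⟨z, hz, hzA, hzB⟩ := hirr A B hA hB ⟨a, ⟨ha, a.2⟩, haA⟩ ⟨b, ⟨hb, b.2⟩, hbB⟩
      exact ⟨⟨z, hz.2⟩, hz.1, hzA, hzB⟩
    · apply SetLike.coe_injective
      show closure (Subtype.val '' (Subtype.val ⁻¹' (V : Set X) : Set S)) = _
      rw [Subtype.image_preimage_coe, inter_comm, hVS]
      refine (closure_minimal inter_subset_left V.isClosed).antisymm fun x hx => ?_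
      refine mem_closure_iff.2 fun O hO hxO => ?_
      rw [hVS] at hne
      obtain ⟨z, hz, hzO, hzU⟩ := V.isIrreducible.2 O U hO hU ⟨x, hx, hxO⟩ hne
      exact ⟨z, hzO, hz, hzU⟩

theorem ordConnected_range_icEmb (hS : IsLocallyClosed S) : (range (icEmb S)).OrdConnected := by
  refine ⟨fun a ha c hc b hb => ?_⟩
  rw [mem_range_icEmb hS] at *
  exact ⟨Subset.trans hb.2 hc.1, ha.2.mono (inter_subset_inter_left _ hb.1)⟩

theorem catenary_iff_open_cover :
    (PtTop.IsCatenarySpace X ↔
      ∀ x : X, ∃ U : TopologicalSpace.Opens X, x ∈ U ∧ PtTop.IsCatenarySpace U) ∧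
    (PtTop.IsCatenarySpace X → ∀ S : Set X, IsLocallyClosed S → PtTop.IsCatenarySpace S) := by
  have hsub : PtTop.IsCatenarySpace X → ∀ S : Set X, IsLocallyClosed S → PtTop.IsCatenarySpace S :=
    fun h S hS => catenary_transfer (icEmb S) (ordConnected_range_icEmb hS) h
  refine ⟨⟨fun h x => ⟨⊤, trivial, hsub h _ isOpen_univ.isLocallyClosed⟩, fun h => ?_⟩, hsub⟩
  rw [isCatenarySpace_iff]
  have key : ∀ a : IrreducibleCloseds X, ∃ U : Opens X, PtTop.IsCatenarySpace U ∧
      ∀ b, a ≤ b → b ∈ range (icEmb (U : Set X)) := fun a => by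
    obtain ⟨x, hx⟩ := a.isIrreducible.nonempty
    obtain ⟨U, hxU, hU⟩ := h x
    exact ⟨U, hU, fun b hab => (mem_range_icEmb U.isOpen.isLocallyClosed).2
      ⟨fun z hz => mem_closure_iff.2 fun O hO hzO => by
        obtain ⟨w, -, hwO, hwU⟩ := b.isIrreducible.2 O U hO U.isOpen ⟨z, hz, hzO⟩ ⟨x, hab hx, hxU⟩
        exact ⟨w, hwO, hwU⟩, x, hab hx, hxU⟩⟩
  refine ⟨fun a b hab => ?_, fun a b c h1 h2 => ?_⟩
  · obtain ⟨U, hU, hr⟩ := key a
    obtain ⟨a', rfl⟩ := hr a le_rfl
    obtain ⟨b', rfl⟩ := hr b hab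
    rw [codim_transfer _ (ordConnected_range_icEmb U.isOpen.isLocallyClosed)]
    exact (isCatenarySpace_iff.1 hU).1 _ _ ((icEmb _).le_iff_le.1 hab)
  · obtain ⟨U, hU, hr⟩ := key a
    obtain ⟨a', rfl⟩ := hr a le_rfl
    obtain ⟨b', rfl⟩ := hr b h1
    obtain ⟨c', rfl⟩ := hr c (h1.trans h2)
    simp only [codim_transfer _ (ordConnected_range_icEmb U.isOpen.isLocallyClosed)]
    exact (isCatenarySpace_iff.1 hU).2 _ _ _ ((icEmb _).le_iff_le.1 h1) ((icEmb _).le_iff_le.1 h2)

end LocallyClosed

end Groth.Agent.PtTopLib
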