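import Mathlib.Topology.Separation.Regular
import Mathlib.Topology.Compactness.LocallyCompact

/-!
# Shrinking open covers of compact subsets
-/

set_option autoImplicit false
universe u v

open Topology Set

namespace Groth.Agent.PtTopLib

variable {X : Type u} [TopologicalSpace X]

/-- `Z` has the property that distinct points of it are separated by opens of `X`. -/
def RelHausdorff (Z : Set X) : Prop :=
  ∀ z ∈ Z, ∀ z' ∈ Z, z ≠ z' → ∃ A B : Set X, IsOpen A ∧ IsOpen B ∧ z ∈ A ∧ z' ∈ B ∧ Disjoint A B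

variable {Z : Set X} (hZ : RelHausdorff Z)
include hZ

theorem exists_separated_point {K : Set X} (hK : IsCompact K) (hKZ : K ⊆ Z) {z : X} (hz : z ∈ Z)
    (hzK : z ∉ K) : ∃ A B : Set X, IsOpen A ∧ IsOpen B ∧ K ⊆ A ∧ z ∈ B ∧ Disjoint A B := by
  refine hK.induction_on ⟨∅, univ, isOpen_empty, isOpen_univ, subset_rfl, trivial, empty_disjoint _⟩
    (fun s t hst ⟨A, B, h1, h2, h3, h4, h5⟩ => ⟨A, B, h1, h2, hst.trans h3, h4, h5⟩) ?_ fun x hx => ?_
  · rintro s t ⟨A, B, h1, h2, h3, h4, h5⟩ ⟨A', B', h1', h2', h3', h4', h5'⟩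
    exact ⟨A ∪ A', B ∩ B', h1.union h1', h2.inter h2', union_subset_union h3 h3', ⟨h4, h4'⟩,
      disjoint_union_left.2 ⟨h5.mono_right inter_subset_left, h5'.mono_right inter_subset_right⟩⟩
  · obtain ⟨A, B, h1, h2, h3, h4, h5⟩ := hZ x (hKZ hx) z hz fun e => hzK (e ▸ hx)
    exact ⟨A, mem_nhdsWithin_of_mem_nhds (h1.mem_nhds h3), A, B, h1, h2, subset_rfl, h4, h5⟩

theorem exists_separated {K L : Set X} (hK : IsCompact K) (hKZ : K ⊆ Z) (hL : IsCompact L)
    (hLZ : L ⊆ Z) (hd : Disjoint K L) :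
    ∃ A B : Set X, IsOpen A ∧ IsOpen B ∧ K ⊆ A ∧ L ⊆ B ∧ Disjoint A B := by
  refine hL.induction_on ⟨univ, ∅, isOpen_univ, isOpen_empty, subset_univ _, subset_rfl, disjoint_empty _⟩
    (fun s t hst ⟨A, B, h1, h2, h3, h4, h5⟩ => ⟨A, B, h1, h2, h3, hst.trans h4, h5⟩) ?_ fun x hx => ?_
  · rintro s t ⟨A, B, h1, h2, h3, h4, h5⟩ ⟨A', B', h1', h2', h3', h4', h5'⟩
    exact ⟨A ∩ A', B ∪ B', h1.inter h1', h2.union h2', subset_inter h3 h3', union_subset_union h4 h4',
      disjoint_union_right.2 ⟨h5.mono_left inter_subset_left, h5'.mono_left inter_subset_right⟩⟩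
  · obtain ⟨A, B, h1, h2, h3, h4, h5⟩ :=
      exists_separated_point hZ hK hKZ (hLZ hx) fun h => disjoint_left.1 hd h hx
    exact ⟨B, mem_nhdsWithin_of_mem_nhds (h2.mem_nhds h4), A, B, h1, h2, h3, subset_rfl, h5⟩

theorem isCompact_inter {K L : Set X} (hK : IsCompact K) (hKZ : K ⊆ Z) (hL : IsCompact L)
    (hLZ : L ⊆ Z) : IsCompact (K ∩ L) := by
  have : T2Space Z := ⟨fun a b hab => by
    obtain ⟨A, B, h1, h2, h3, h4, h5⟩ := hZ a a.2 b b.2 fun e => hab (Subtype.ext e)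
    exact ⟨Subtype.val ⁻¹' A, Subtype.val ⁻¹' B, h1.preimage continuous_subtype_val,
      h2.preimage continuous_subtype_val, h3, h4, h5.preimage _⟩⟩
  have hK' : IsCompact (Subtype.val ⁻¹' K : Set Z) := by
    rwa [Subtype.isCompact_iff, Subtype.image_preimage_coe, inter_eq_right.2 hKZ]
  have hL' : IsCompact (Subtype.val ⁻¹' L : Set Z) := by
    rwa [Subtype.isCompact_iff, Subtype.image_preimage_coe, inter_eq_right.2 hLZ]
  have := hK'.inter hL'
  rwa [← preimage_inter, Subtype.isCompact_iff, Subtype.image_preimage_coe,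
    inter_eq_right.2 (inter_subset_left.trans hKZ)] at this

theorem exists_expansion : ∀ (n : ℕ) (K : Fin (n + 1) → Set X), (∀ l, IsCompact (K l)) →
    (∀ l, K l ⊆ Z) → ∀ W : Set X, IsOpen W → (⋂ l, K l) ⊆ W →
    ∃ G : Fin (n + 1) → Set X, (∀ l, IsOpen (G l)) ∧ (∀ l, K l ⊆ G l) ∧ (⋂ l, G l) ⊆ W := by
  intro n
  induction n with
  | zero =>
    intro K _ _ W hW hKW
    exact ⟨fun _ => W, fun _ => hW,
      fun l x hx => hKW (mem_iInter.2 fun l' => (Fin.ext (by omega) : l = l') ▸ hx), iInter_subset _ 0⟩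
  | succ n ih =>
    intro K hK hKZ W hW hKW
    have hL : IsCompact (⋂ l : Fin (n + 1), K l.succ) := by
      have key : ∀ (m : ℕ) (M : Fin (m + 1) → Set X), (∀ l, IsCompact (M l) ∧ M l ⊆ Z) →
          IsCompact (⋂ l, M l) := by
        intro m
        induction m with
        | zero =>
          intro M hM
          have : (⋂ l, M l) = M 0 := by ext x; simp [Fin.forall_fin_one]
          exact this ▸ (hM 0).1
        | succ m ihm =>
          intro M hM
          have : (⋂ l, M l) = M 0 ∩ ⋂ l : Fin (m + 1), M l.succ := by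
            ext x; simp [Fin.forall_fin_succ]
          rw [this]
          exact isCompact_inter hZ (hM 0).1 (hM 0).2 (ihm _ fun l => hM l.succ)
            ((iInter_subset _ 0).trans (hM _).2)
      exact key n _ fun l => ⟨hK _, hKZ _⟩
    have hsplit : (⋂ l, K l) = K 0 ∩ ⋂ l : Fin (n + 1), K l.succ := by
      ext x; simp [Fin.forall_fin_succ]
    obtain ⟨A, B, hA, hB, hKA, hLB, hd⟩ := exists_separated hZ
      ((hK 0).diff hW) (sdiff_subset.trans (hKZ 0)) (hL.diff hW)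
      (sdiff_subset.trans ((iInter_subset _ 0).trans (hKZ _)))
      (disjoint_left.2 fun x hx hx' => hx.2 (hKW (hsplit.ge ⟨hx.1, hx'.1⟩)))
    obtain ⟨G, hG, hKG, hGW⟩ := ih (fun l => K l.succ) (fun l => hK _) (fun l => hKZ _) (B ∪ W)
      (hB.union hW) fun x hx => (em (x ∈ W)).elim .inr fun h => .inl (hLB ⟨hx, h⟩)
    have h0 : K 0 ⊆ A ∪ W := fun x hx => by
      by_cases h : x ∈ W
      · exact Or.inr h
      · exact Or.inl (hKA ⟨hx, h⟩)
    refine ⟨Fin.cons (A ∪ W) G, ?_, ?_, ?_⟩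
    · exact Fin.cases (by simpa using hA.union hW) (by simpa using hG)
    · exact Fin.cases (by simpa using h0) (by simpa using hKG)
    intro x hx
    simp only [mem_iInter, Fin.forall_fin_succ, Fin.cons_zero, Fin.cons_succ] at hx
    rcases hx.1 with ha | hw
    · exact (hGW (mem_iInter.2 (Fin.forall_fin_succ.2 hx.2))).resolve_left
        fun hb => disjoint_left.1 hd ha hb
    · exact hw

/-- Shrinking a cover of a compact relatively Hausdorff set. -/
theorem exists_shrinking (hZc : IsCompact Z) {ι : Type v} (U : ι → Set X) (hU : ∀ i, IsOpen (U i))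
    (hcov : Z ⊆ ⋃ i, U i) :
    ∃ (s : Finset ι) (K : ι → Set X), (∀ i, IsCompact (K i) ∧ K i ⊆ Z ∧ K i ⊆ U i) ∧
      (∀ i ∉ s, K i = ∅) ∧ Z ⊆ ⋃ i, K i := by
  obtain ⟨s, hs⟩ := hZc.elim_finite_subcover U hU hcov
  have : CompactSpace Z := isCompact_iff_compactSpace.1 hZc
  have : T2Space Z := ⟨fun a b hab => by
    obtain ⟨A, B, h1, h2, h3, h4, h5⟩ := hZ a a.2 b b.2 fun e => hab (Subtype.ext e)
    exact ⟨Subtype.val ⁻¹' A, Subtype.val ⁻¹' B, h1.preimage continuous_subtype_val,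
      h2.preimage continuous_subtype_val, h3, h4, h5.preimage _⟩⟩
  obtain ⟨K, hKc, hKU, hK⟩ := (isCompact_univ (X := Z)).finite_compact_cover s
    (fun i => Subtype.val ⁻¹' U i) (fun i _ => (hU i).preimage continuous_subtype_val) fun z _ => by
      obtain ⟨i, hi, hzi⟩ := mem_iUnion₂.1 (hs z.2)
      exact mem_iUnion₂.2 ⟨i, hi, hzi⟩
  classical
  refine ⟨s, fun i => if i ∈ s then Subtype.val '' K i else ∅, fun i => ?_, fun i hi => if_neg hi,
    fun z hz => ?_⟩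
  · by_cases hi : i ∈ s
    · simp only [if_pos hi]
      exact ⟨(hKc i).image continuous_subtype_val, Subtype.coe_image_subset _ _,
        image_subset_iff.2 (hKU i)⟩
    · simp only [if_neg hi]
      exact ⟨isCompact_empty, empty_subset _, empty_subset _⟩
  · obtain ⟨i, hi, hzi⟩ := mem_iUnion₂.1 (hK.le (mem_univ (⟨z, hz⟩ : Z)))
    exact mem_iUnion.2 ⟨i, by simpa [hi] using ⟨hz, hzi⟩⟩

/-- The shrinking lemma with prescribed intersections. -/
theorem exists_lifting_cover (hZc : IsCompact Z) {ι : Type v} (U : ι → Set X)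
    (hU : ∀ i, IsOpen (U i)) (hcov : Z ⊆ ⋃ i, U i) (p : ℕ) (W : (Fin (p + 1) → ι) → Set X)
    (hWo : ∀ t, IsOpen (W t)) (hWZ : ∀ t, W t ∩ Z = (⋂ l, U (t l)) ∩ Z) :
    ∃ V : ι → Set X, (∀ i, IsOpen (V i)) ∧ (Z ⊆ ⋃ i, V i) ∧ (∀ i, V i ⊆ U i) ∧
      (∀ i, closure (V i) ∩ Z ⊆ U i) ∧ (∀ t : Fin (p + 1) → ι, (⋂ l, V (t l)) ⊆ W t) := by
  obtain ⟨s, K, hK, hKs, hKcov⟩ := exists_shrinking hZ hZc U hU hcov
  have hA : ∀ i, ∃ A B : Set X, IsOpen A ∧ IsOpen B ∧ K i ⊆ A ∧ Z \ U i ⊆ B ∧ Disjoint A B :=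
    fun i => exists_separated hZ (hK i).1 (hK i).2.1 (hZc.diff (hU i)) sdiff_subset
      (disjoint_left.2 fun x hx hx' => hx'.2 ((hK i).2.2 hx))
  choose A B hAo hBo hKA hZB hAB using hA
  have hG : ∀ t : Fin (p + 1) → ι, ∃ G : Fin (p + 1) → Set X,
      (∀ l, IsOpen (G l)) ∧ (∀ l, K (t l) ⊆ G l) ∧ (⋂ l, G l) ⊆ W t := fun t =>
    exists_expansion hZ p (fun l => K (t l)) (fun l => (hK _).1) (fun l => (hK _).2.1) (W t) (hWo t)
      fun x hx => ((hWZ t).ge ⟨mem_iInter.2 fun l => (hK _).2.2 (mem_iInter.1 hx l),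
        (hK _).2.1 (mem_iInter.1 hx 0)⟩).1
  choose G hGo hKG hGW using hG
  classical
  let T : Finset (Fin (p + 1) → ι) := Fintype.piFinset fun _ => s
  let V : ι → Set X := fun i =>
    if i ∈ s then U i ∩ A i ∩ ⋂ t ∈ T, ⋂ l, ⋂ _ : t l = i, G t l else ∅
  have hV : ∀ i ∈ s, V i = U i ∩ A i ∩ ⋂ t ∈ T, ⋂ l, ⋂ _ : t l = i, G t l := fun i hi => if_pos hi
  have hVA : ∀ i, V i ⊆ U i ∩ A i := fun i => by
    by_cases hi : i ∈ s
    · rw [hV i hi]; exact inter_subset_left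
    · simp [V, hi]
  refine ⟨V, fun i => ?_, ?_, fun i => (hVA i).trans inter_subset_left, fun i => ?_, fun t => ?_⟩
  · by_cases hi : i ∈ s
    · rw [hV i hi]
      exact ((hU i).inter (hAo i)).inter (isOpen_biInter_finset fun t _ =>
        isOpen_iInter_of_finite fun l => isOpen_iInter_of_finite fun _ => hGo t l)
    · simp [V, hi]
  · intro z hz
    obtain ⟨i, hi⟩ := mem_iUnion.1 (hKcov hz)
    have his : i ∈ s := by_contra fun h => by simp [hKs i h] at hi
    refine mem_iUnion.2 ⟨i, ?_⟩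
    rw [hV i his]
    refine ⟨⟨(hK i).2.2 hi, hKA i hi⟩, mem_iInter₂.2 fun t _ => mem_iInter₂.2 fun l hl => ?_⟩
    exact hKG t l (hl ▸ hi)
  · rintro z ⟨hz, hzZ⟩
    by_contra hzU
    obtain ⟨y, hyB, hyV⟩ := mem_closure_iff.1 hz (B i) (hBo i) (hZB i ⟨hzZ, hzU⟩)
    exact disjoint_left.1 (hAB i) (hVA i hyV).2 hyB
  · intro z hz
    have hts : ∀ l, t l ∈ s := fun l => by_contra fun h => by
      simpa [V, h] using mem_iInter.1 hz l
    refine hGW t (mem_iInter.2 fun l => ?_)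
    have := mem_iInter.1 hz l
    rw [hV _ (hts l)] at this
    exact mem_iInter₂.1 (mem_iInter₂.1 this.2 t (Fintype.mem_piFinset.2 hts)) l rfl

end Groth.Agent.PtTopLib
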