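import Groth.Prelude.Def_W4stktopologysheavesDim
import Mathlib.Topology.Spectral.Basic
import Mathlib.Topology.NoetherianSpace

/-!
# Soberification
-/

set_option autoImplicit false
universe u

open Topology TopologicalSpace Set

namespace Groth.Agent.PtTopLib

variable {X : Type u} [TopologicalSpace X]

/-- The underlying set of a point of the soberification. -/
def pts (Z : PtTop.Sob X) : Set X :=
  let Z' : IrreducibleCloseds X := Z
  (Z' : Set X)

theorem pts_irreducible (Z : PtTop.Sob X) : IsIrreducible (pts Z) := Z.isIrreducible'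

theorem pts_closed (Z : PtTop.Sob X) : IsClosed (pts Z) := Z.isClosed'

theorem pts_injective : Function.Injective (pts (X := X)) := fun _ _ h => IrreducibleCloseds.ext h

/-- The open of the soberification attached to an open of `X`. -/
def hat (U : Set X) : Set (PtTop.Sob X) := {Z | (pts Z ∩ U).Nonempty}

theorem isOpen_hat {U : Set X} (hU : IsOpen U) : IsOpen (hat U : Set (PtTop.Sob X)) :=
  TopologicalSpace.isOpen_generateFrom_of_mem ⟨⟨U, hU⟩, rfl⟩

theorem isOpen_sob_iff {S : Set (PtTop.Sob X)} : IsOpen S ↔ ∃ U : Opens X, S = hat (U : Set X) := by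
  refine ⟨fun h => ?_, fun ⟨U, hU⟩ => hU ▸ isOpen_hat U.isOpen⟩
  induction h with
  | basic s hs => exact hs
  | univ => exact ⟨⊤, (eq_univ_of_forall fun Z => by
      show (pts Z ∩ univ).Nonempty
      simpa using (pts_irreducible Z).nonempty).symm⟩
  | inter s t _ _ ihs iht =>
    obtain ⟨U, rfl⟩ := ihs
    obtain ⟨V, rfl⟩ := iht
    refine ⟨U ⊓ V, Set.ext fun Z => ⟨fun h => (pts_irreducible Z).2 U V U.isOpen V.isOpen h.1 h.2,
      fun ⟨z, hz, hzU, hzV⟩ => ⟨⟨z, hz, hzU⟩, ⟨z, hz, hzV⟩⟩⟩⟩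
  | sUnion S _ ih =>
    choose U hU using ih
    refine ⟨⨆ s : S, U s.1 s.2, Set.ext fun Z => ⟨fun ⟨s, hs, hZ⟩ => ?_, fun ⟨z, hz, hzU⟩ => ?_⟩⟩
    · obtain ⟨z, hz, hzU⟩ : Z ∈ hat (U s hs : Set X) := hU s hs ▸ hZ
      exact ⟨z, hz, Opens.mem_iSup.2 ⟨⟨s, hs⟩, hzU⟩⟩
    · obtain ⟨⟨s, hs⟩, h⟩ := Opens.mem_iSup.1 hzU
      exact ⟨s, hs, by rw [hU s hs]; exact ⟨z, hz, h⟩⟩

theorem preimage_hat {U : Set X} (hU : IsOpen U) : PtTop.toSob X ⁻¹' hat U = U := by
  ext x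
  refine ⟨fun ⟨z, hz, hzU⟩ => ?_, fun hx => ⟨x, subset_closure rfl, hx⟩⟩
  exact (specializes_iff_mem_closure.2 hz : x ⤳ z).mem_open hU hzU

theorem hat_subset_hat {U V : Set X} (hU : IsOpen U) (hV : IsOpen V) :
    (hat U : Set (PtTop.Sob X)) ⊆ hat V ↔ U ⊆ V :=
  ⟨fun h => preimage_hat hU ▸ preimage_hat hV ▸ preimage_mono h, fun h _ ⟨z, hz, hzU⟩ => ⟨z, hz, h hzU⟩⟩

theorem continuous_toSob : Continuous (PtTop.toSob X) := by
  rw [continuous_def]
  intro S hS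
  obtain ⟨U, rfl⟩ := isOpen_sob_iff.1 hS
  rw [preimage_hat U.isOpen]
  exact U.isOpen

theorem bijOn_preimage :
    Set.BijOn (fun U' : Set (PtTop.Sob X) => PtTop.toSob X ⁻¹' U') {U' | IsOpen U'}
      {U : Set X | IsOpen U} := by
  refine ⟨fun S hS => hS.preimage continuous_toSob, fun S hS T hT h => ?_,
    fun U hU => ⟨hat U, isOpen_hat hU, preimage_hat hU⟩⟩
  obtain ⟨U, rfl⟩ := isOpen_sob_iff.1 hS
  obtain ⟨V, rfl⟩ := isOpen_sob_iff.1 hT
  dsimp only at h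
  rw [preimage_hat U.isOpen, preimage_hat V.isOpen] at h
  rw [h]

theorem t0Space_sob : T0Space (PtTop.Sob X) := by
  refine ⟨fun Z W h => pts_injective ?_⟩
  have key : ∀ A B : PtTop.Sob X, Inseparable A B → pts A ⊆ pts B := fun A B h a ha => by
    by_contra hb
    obtain ⟨z, hz, hzB⟩ :=
      (h.mem_open_iff (isOpen_hat (pts_closed B).isOpen_compl)).1 ⟨a, ha, hb⟩
    exact hzB hz
  exact (key Z W h).antisymm (key W Z h.symm)

theorem quasiSober_sob : QuasiSober (PtTop.Sob X) := by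
  refine ⟨fun {S} hS hSc => ?_⟩
  obtain ⟨U, hU⟩ := isOpen_sob_iff.1 hSc.isOpen_compl
  have hSeq : S = (hat (U : Set X))ᶜ := by rw [← hU, compl_compl]
  have hirr : IsIrreducible ((U : Set X)ᶜ) := by
    obtain ⟨Z, hZ⟩ := hS.nonempty
    refine ⟨?_, fun V W hV hW ⟨a, ha, haV⟩ ⟨b, hb, hbW⟩ => ?_⟩
    · obtain ⟨z, hz⟩ := (pts_irreducible Z).nonempty
      exact ⟨z, fun hzU => (hSeq.subset hZ) ⟨z, hz, hzU⟩⟩
    · have hmem : ∀ x ∈ ((U : Set X))ᶜ, PtTop.toSob X x ∈ S := fun x hx => by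
        rw [hSeq]
        exact fun h => hx ((preimage_hat U.isOpen).subset h)
      obtain ⟨Y, hY, hYV, hYW⟩ := hS.2 (hat V) (hat W) (isOpen_hat hV) (isOpen_hat hW)
        ⟨_, hmem a ha, (preimage_hat hV).ge haV⟩ ⟨_, hmem b hb, (preimage_hat hW).ge hbW⟩
      obtain ⟨y, hy, hyVW⟩ := (pts_irreducible Y).2 V W hV hW hYV hYW
      exact ⟨y, fun hyU => (hSeq.subset hY) ⟨y, hy, hyU⟩, hyVW⟩
  let C : PtTop.Sob X := (⟨(U : Set X)ᶜ, hirr, U.isOpen.isClosed_compl⟩ : IrreducibleCloseds X)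
  have hCS : C ∈ S := by rw [hSeq]; exact fun ⟨z, hz, hzU⟩ => hz hzU
  refine ⟨C, subset_antisymm (hSc.closure_subset_iff.2 (singleton_subset_iff.2 hCS)) fun Z hZ => ?_⟩
  refine mem_closure_iff.2 fun O hO hZO => ⟨C, ?_, rfl⟩
  obtain ⟨V, rfl⟩ := isOpen_sob_iff.1 hO
  obtain ⟨z, hz, hzV⟩ := hZO
  exact ⟨z, fun hzU => (hSeq.subset hZ) ⟨z, hz, hzU⟩, hzV⟩

theorem exists_lift {Y : Type u} [TopologicalSpace Y] [QuasiSober Y] [T0Space Y] (f : X → Y)
    (hf : Continuous f) : ∃ g : PtTop.Sob X → Y, Continuous g ∧ g ∘ PtTop.toSob X = f := by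
  let g : PtTop.Sob X → Y := fun Z =>
    ((pts_irreducible Z).image f hf.continuousOn).closure.genericPoint
  have hg : ∀ Z, IsGenericPoint (g Z) (closure (f '' pts Z)) := fun Z =>
    ((pts_irreducible Z).image f hf.continuousOn).closure.isGenericPoint_genericPoint isClosed_closure
  refine ⟨g, ⟨fun O hO => ?_⟩, funext fun x => ?_⟩
  · have : g ⁻¹' O = hat (f ⁻¹' O) := by
      ext Z
      show g Z ∈ O ↔ _
      rw [(hg Z).mem_open_set_iff hO]
      refine ⟨fun ⟨y, hy, hyO⟩ => ?_, fun ⟨z, hz, hzO⟩ => ⟨f z, subset_closure ⟨z, hz, rfl⟩, hzO⟩⟩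
      obtain ⟨_, hzO, z, hz, rfl⟩ := mem_closure_iff.1 hy O hO hyO
      exact ⟨z, hz, hzO⟩
    rw [this]
    exact isOpen_hat (hO.preimage hf)
  · refine (hg (PtTop.toSob X x)).eq ?_
    show closure {f x} = closure (f '' closure {x})
    rw [closure_image_closure hf, image_singleton]

theorem isCompact_hat {U : Set X} (hU : IsOpen U) (hc : IsCompact U) :
    IsCompact (hat U : Set (PtTop.Sob X)) := by
  refine isCompact_of_finite_subcover fun {ι} O hO hcov => ?_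
  choose V hV using fun i => isOpen_sob_iff.1 (hO i)
  have : U ⊆ ⋃ i, (V i : Set X) := fun x hx => by
    obtain ⟨i, hi⟩ := mem_iUnion.1 (hcov (show PtTop.toSob X x ∈ hat U from (preimage_hat hU).ge hx))
    exact mem_iUnion.2 ⟨i, (preimage_hat (V i).isOpen).subset (hV i ▸ hi)⟩
  obtain ⟨t, ht⟩ := hc.elim_finite_subcover _ (fun i => (V i).isOpen) this
  refine ⟨t, fun Z ⟨z, hz, hzU⟩ => ?_⟩
  obtain ⟨i, hi, hzi⟩ := mem_iUnion₂.1 (ht hzU)
  exact mem_iUnion₂.2 ⟨i, hi, by rw [hV i]; exact ⟨z, hz, hzi⟩⟩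

theorem isCompact_of_hat {U : Set X} (hU : IsOpen U) (hc : IsCompact (hat U : Set (PtTop.Sob X))) :
    IsCompact U := by
  refine isCompact_of_finite_subcover fun {ι} V hV hcov => ?_
  obtain ⟨t, ht⟩ := hc.elim_finite_subcover _ (fun i => isOpen_hat (hV i)) fun Z ⟨z, hz, hzU⟩ => by
    obtain ⟨i, hi⟩ := mem_iUnion.1 (hcov hzU)
    exact mem_iUnion.2 ⟨i, z, hz, hi⟩
  refine ⟨t, fun x hx => ?_⟩
  obtain ⟨i, hi, hxi⟩ :=
    mem_iUnion₂.1 (ht (show PtTop.toSob X x ∈ hat U from (preimage_hat hU).ge hx))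
  exact mem_iUnion₂.2 ⟨i, hi, (preimage_hat (hV i)).subset hxi⟩

theorem hat_univ : (hat univ : Set (PtTop.Sob X)) = univ :=
  eq_univ_of_forall fun Z => by
    show (pts Z ∩ univ).Nonempty
    simpa using (pts_irreducible Z).nonempty

theorem compactSpace_sob [CompactSpace X] : CompactSpace (PtTop.Sob X) :=
  ⟨hat_univ (X := X) ▸ isCompact_hat isOpen_univ isCompact_univ⟩

theorem spectralSpace_sob [CompactSpace X] [PrespectralSpace X] [QuasiSeparatedSpace X] :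
    SpectralSpace (PtTop.Sob X) := by
  have := t0Space_sob (X := X)
  have := quasiSober_sob (X := X)
  have := compactSpace_sob (X := X)
  have : PrespectralSpace (PtTop.Sob X) := by
    refine ⟨isTopologicalBasis_of_isOpen_of_nhds (fun U hU => hU.1) fun Z S hZ hS => ?_⟩
    obtain ⟨U, rfl⟩ := isOpen_sob_iff.1 hS
    obtain ⟨z, hz, hzU⟩ := hZ
    obtain ⟨V, ⟨hVo, hVc⟩, hzV, hVU⟩ :=
      (PrespectralSpace.isTopologicalBasis (X := X)).exists_subset_of_mem_open hzU U.isOpen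
    exact ⟨hat V, ⟨isOpen_hat hVo, isCompact_hat hVo hVc⟩, ⟨z, hz, hzV⟩,
      (hat_subset_hat hVo U.isOpen).2 hVU⟩
  have : QuasiSeparatedSpace (PtTop.Sob X) := by
    refine ⟨fun S T hS hSc hT hTc => ?_⟩
    obtain ⟨U, rfl⟩ := isOpen_sob_iff.1 hS
    obtain ⟨V, rfl⟩ := isOpen_sob_iff.1 hT
    have hc := (isCompact_of_hat U.isOpen hSc).inter_of_isOpen (isCompact_of_hat V.isOpen hTc)
      U.isOpen V.isOpen
    convert isCompact_hat (U.isOpen.inter V.isOpen) hc using 1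
    exact Set.ext fun Z => ⟨fun h => (pts_irreducible Z).2 U V U.isOpen V.isOpen h.1 h.2,
      fun ⟨z, hz, hzU, hzV⟩ => ⟨⟨z, hz, hzU⟩, ⟨z, hz, hzV⟩⟩⟩
  exact { }

theorem noetherianSpace_sob [NoetherianSpace X] : NoetherianSpace (PtTop.Sob X) := by
  refine ((noetherianSpace_TFAE (PtTop.Sob X)).out 0 3).2 fun S => ?_
  obtain ⟨U, hU⟩ := isOpen_sob_iff.1 S.isOpen
  rw [hU]
  exact isCompact_hat U.isOpen (NoetherianSpace.isCompact _)

end Groth.Agent.PtTopLib
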